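import Mathlib
import Cfsg.Agent.Lib.Helper73.SY.Defs

set_option autoImplicit false

/-!
Project SY (S2221, helper73), package [ST3]: distinct orbits of a maximal 2-subgroup of
`Perm α` have distinct sizes.  (Unconditional: `Q` is a Sylow 2-subgroup of `Perm α`, contained
in the stabiliser `H0` of the ordered pair `(O, O')`, which has index 2 in the stabiliser of the
unordered pair when `|O| = |O'|`.)
-/

namespace Cfsg.Agent.Lib.Helper15.SY

open Equiv Cfsg.Agent.Lib.Helper73.SY

section

variable {α : Type} [DecidableEq α]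

theorem image_mul' (a b : Perm α) (A : Finset α) :
    A.image ⇑(a * b) = (A.image ⇑b).image ⇑a := by
  rw [Finset.image_image]
  rfl

theorem image_inv' (a : Perm α) (A B : Finset α) (h : A.image ⇑a = B) : B.image ⇑a⁻¹ = A := by
  rw [← h, Finset.image_image]
  have h1 : (⇑a⁻¹ ∘ ⇑a) = id := by
    funext x
    simp
  rw [h1, Finset.image_id]

theorem image_one' (A : Finset α) : A.image ⇑(1 : Perm α) = A := by
  rw [Perm.coe_one, Finset.image_id]

/-- The stabiliser of the ordered pair `(O, O')`. -/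
def stab2 (O O' : Finset α) : Subgroup (Perm α) where
  carrier := {g | O.image ⇑g = O ∧ O'.image ⇑g = O'}
  one_mem' := ⟨image_one' O, image_one' O'⟩
  mul_mem' := by
    rintro a b ⟨ha1, ha2⟩ ⟨hb1, hb2⟩
    exact ⟨by rw [image_mul', hb1, ha1], by rw [image_mul', hb2, ha2]⟩
  inv_mem' := by
    rintro a ⟨ha1, ha2⟩
    exact ⟨image_inv' a _ _ ha1, image_inv' a _ _ ha2⟩

/-- The stabiliser of the unordered pair `{O, O'}`. -/
def stabPair (O O' : Finset α) : Subgroup (Perm α) where
  carrier := {g | (O.image ⇑g = O ∧ O'.image ⇑g = O') ∨ (O.image ⇑g = O' ∧ O'.image ⇑g = O)}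
  one_mem' := Or.inl ⟨image_one' O, image_one' O'⟩
  mul_mem' := by
    rintro a b (⟨ha1, ha2⟩ | ⟨ha1, ha2⟩) (⟨hb1, hb2⟩ | ⟨hb1, hb2⟩)
    · left; exact ⟨by rw [image_mul', hb1, ha1], by rw [image_mul', hb2, ha2]⟩
    · right; exact ⟨by rw [image_mul', hb1, ha2], by rw [image_mul', hb2, ha1]⟩
    · right; exact ⟨by rw [image_mul', hb1, ha1], by rw [image_mul', hb2, ha2]⟩
    · left; exact ⟨by rw [image_mul', hb1, ha2], by rw [image_mul', hb2, ha1]⟩
  inv_mem' := by
    rintro a (⟨ha1, ha2⟩ | ⟨ha1, ha2⟩)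
    · left; exact ⟨image_inv' a _ _ ha1, image_inv' a _ _ ha2⟩
    · right; exact ⟨image_inv' a _ _ ha2, image_inv' a _ _ ha1⟩

/-- Two disjoint finite sets of the same size are swapped by a permutation. -/
theorem exists_swapper (O O' : Finset α) (hd : Disjoint O O') (hc : O.card = O'.card) :
    ∃ u : Perm α, O.image ⇑u = O' ∧ O'.image ⇑u = O := by
  classical
  let e : O ≃ O' := Finset.equivOfCardEq hc
  let f : α → α := fun x =>
    if h : x ∈ O then (e ⟨x, h⟩ : α) else if h' : x ∈ O' then (e.symm ⟨x, h'⟩ : α) else x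
  have hf1 : ∀ x (h : x ∈ O), f x = e ⟨x, h⟩ := by
    intro x h
    simp only [f, dif_pos h]
  have hf2 : ∀ x (h' : x ∈ O'), f x = e.symm ⟨x, h'⟩ := by
    intro x h'
    have h : x ∉ O := fun h => (Finset.disjoint_left.mp hd h) h'
    simp only [f, dif_neg h, dif_pos h']
  have hf3 : ∀ x, x ∉ O → x ∉ O' → f x = x := by
    intro x h h'
    simp only [f, dif_neg h, dif_neg h']
  have hinv : Function.Involutive f := by
    intro x
    by_cases h : x ∈ O
    · rw [hf1 x h, hf2 _ (e ⟨x, h⟩).2]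
      simp
    · by_cases h' : x ∈ O'
      · rw [hf2 x h', hf1 _ (e.symm ⟨x, h'⟩).2]
        simp
      · rw [hf3 x h h', hf3 x h h']
  refine ⟨hinv.toPerm f, ?_, ?_⟩
  · ext y
    simp only [Finset.mem_image, Function.Involutive.coe_toPerm]
    constructor
    · rintro ⟨x, hx, rfl⟩
      rw [hf1 x hx]
      exact (e ⟨x, hx⟩).2
    · intro hy
      refine ⟨e.symm ⟨y, hy⟩, (e.symm ⟨y, hy⟩).2, ?_⟩
      rw [hf1 _ (e.symm ⟨y, hy⟩).2]
      simp
  · ext y
    simp only [Finset.mem_image, Function.Involutive.coe_toPerm]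
    constructor
    · rintro ⟨x, hx, rfl⟩
      rw [hf2 x hx]
      exact (e.symm ⟨x, hx⟩).2
    · intro hy
      refine ⟨e ⟨y, hy⟩, (e ⟨y, hy⟩).2, ?_⟩
      rw [hf2 _ (e ⟨y, hy⟩).2]
      simp

end

/-- [ST3], unconditional. -/
theorem lemOrbDistinct : LemOrbDistinct := by
  intro α _ _ Q O O' hQ _ _ hinv htr hinv' htr' hOO' hcard
  have hdisj : Disjoint O O' := by
    rw [Finset.disjoint_left]
    intro x hx hx'
    apply hOO'
    apply Finset.Subset.antisymm
    · intro y hy
      obtain ⟨q, hq, rfl⟩ := htr x hx y hy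
      exact hinv' q hq x hx'
    · intro y hy
      obtain ⟨q, hq, rfl⟩ := htr' x hx' y hy
      exact hinv q hq x hx
  obtain ⟨u, hu1, hu2⟩ := exists_swapper O O' hdisj hcard
  have hQle : Q ≤ stab2 O O' := by
    intro q hq
    constructor
    · apply Finset.eq_of_subset_of_card_le
      · intro y hy
        rw [Finset.mem_image] at hy
        obtain ⟨x, hx, rfl⟩ := hy
        exact hinv q hq x hx
      · rw [Finset.card_image_of_injective _ q.injective]
    · apply Finset.eq_of_subset_of_card_le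
      · intro y hy
        rw [Finset.mem_image] at hy
        obtain ⟨x, hx, rfl⟩ := hy
        exact hinv' q hq x hx
      · rw [Finset.card_image_of_injective _ q.injective]
  have hle : stab2 O O' ≤ stabPair O O' := fun g hg => Or.inl hg
  have hu : u ∈ stabPair O O' := Or.inr ⟨hu1, hu2⟩
  have hidx : (stab2 O O').relIndex (stabPair O O') = 2 := by
    show ((stab2 O O').subgroupOf (stabPair O O')).index = 2
    rw [Subgroup.index_eq_two_iff]
    refine ⟨⟨u, hu⟩, ?_⟩
    intro b
    rcases b.2 with ⟨hb1, hb2⟩ | ⟨hb1, hb2⟩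
    · refine Or.inr ⟨?_, ?_⟩
      · rw [Subgroup.mem_subgroupOf]
        exact ⟨hb1, hb2⟩
      · rw [Subgroup.mem_subgroupOf]
        intro h
        have h1 : O.image ⇑((b : Perm α) * u) = O := h.1
        rw [image_mul', hu1, hb2] at h1
        exact hOO' h1.symm
    · refine Or.inl ⟨?_, ?_⟩
      · rw [Subgroup.mem_subgroupOf]
        have h1 : O.image ⇑((b : Perm α) * u) = O := by rw [image_mul', hu1, hb2]
        have h2 : O'.image ⇑((b : Perm α) * u) = O' := by rw [image_mul', hu2, hb1]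
        exact ⟨h1, h2⟩
      · rw [Subgroup.mem_subgroupOf]
        intro h
        have h1 : O.image ⇑(b : Perm α) = O := h.1
        exact hOO' (h1.symm.trans hb1)
  have : Fact (Nat.Prime 2) := ⟨Nat.prime_two⟩
  let P : Sylow 2 (Perm α) := ⟨Q, hQ.1, fun {R} hR hle => hQ.2 R hR hle⟩
  have hnd : ¬ 2 ∣ Q.index := P.not_dvd_index
  apply hnd
  rw [← Subgroup.relIndex_mul_index hQle, ← Subgroup.relIndex_mul_index hle, hidx]
  exact dvd_mul_of_dvd_right (dvd_mul_right 2 _) _

/-- [ST3] in the announced form. -/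
theorem lemOrbDistinct_of (_hR : LemRestr) (_hP : LemPartSyl) : LemOrbDistinct := lemOrbDistinct

end Cfsg.Agent.Lib.Helper15.SY
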