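import Mathlib
import Cfsg.Agent.Lib.Helper73.SY.Defs

set_option autoImplicit false

/-!
Project SY (S2221, helper73), package [STRUCT]: the orbit structure of a maximal 2-subgroup of
`Perm (Fin n)`.
-/

namespace Cfsg.Agent.Lib.Helper15.SY

open Equiv Cfsg.Agent.Lib.Helper73.SY

open Classical in
/-- The orbit of `x` under `Q`, as a `Finset`. -/
noncomputable def orb {n : ℕ} (Q : Subgroup (Perm (Fin n))) (x : Fin n) : Finset (Fin n) :=
  Finset.univ.filter (fun y => ∃ q ∈ Q, q x = y)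

theorem mem_orb {n : ℕ} (Q : Subgroup (Perm (Fin n))) (x y : Fin n) :
    y ∈ orb Q x ↔ ∃ q ∈ Q, q x = y := by
  unfold orb
  simp

theorem self_mem_orb {n : ℕ} (Q : Subgroup (Perm (Fin n))) (x : Fin n) : x ∈ orb Q x :=
  (mem_orb Q x x).mpr ⟨1, Q.one_mem, rfl⟩

theorem orb_inv {n : ℕ} (Q : Subgroup (Perm (Fin n))) (x : Fin n) (q : Perm (Fin n))
    (hq : q ∈ Q) (y : Fin n) (hy : y ∈ orb Q x) : q y ∈ orb Q x := by
  obtain ⟨q', hq', rfl⟩ := (mem_orb Q x y).mp hy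
  exact (mem_orb Q x _).mpr ⟨q * q', Q.mul_mem hq hq', rfl⟩

theorem orb_tr {n : ℕ} (Q : Subgroup (Perm (Fin n))) (x y z : Fin n) (hy : y ∈ orb Q x)
    (hz : z ∈ orb Q x) : ∃ q ∈ Q, q y = z := by
  obtain ⟨q1, hq1, rfl⟩ := (mem_orb Q x y).mp hy
  obtain ⟨q2, hq2, rfl⟩ := (mem_orb Q x z).mp hz
  exact ⟨q2 * q1⁻¹, Q.mul_mem hq2 (Q.inv_mem hq1), by simp⟩

theorem orb_eq {n : ℕ} (Q : Subgroup (Perm (Fin n))) (x y : Fin n) (hy : y ∈ orb Q x) :
    orb Q y = orb Q x := by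
  ext z
  rw [mem_orb, mem_orb]
  obtain ⟨q1, hq1, rfl⟩ := (mem_orb Q x y).mp hy
  constructor
  · rintro ⟨q, hq, rfl⟩
    exact ⟨q * q1, Q.mul_mem hq hq1, rfl⟩
  · rintro ⟨q, hq, rfl⟩
    exact ⟨q * q1⁻¹, Q.mul_mem hq (Q.inv_mem hq1), by simp⟩

theorem orb_card {n : ℕ} (Q : Subgroup (Perm (Fin n))) (hQ : IsPGroup 2 ↥Q) (x : Fin n) :
    ∃ k : ℕ, (orb Q x).card = 2 ^ k := by
  obtain ⟨k, hk⟩ := hQ.card_orbit (α := Fin n) x
  refine ⟨k, ?_⟩
  have hset : (↑(orb Q x) : Set (Fin n)) = MulAction.orbit ↥Q x := by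
    ext y
    rw [Finset.mem_coe, mem_orb, MulAction.mem_orbit_iff]
    constructor
    · rintro ⟨q, hq, rfl⟩
      exact ⟨⟨q, hq⟩, rfl⟩
    · rintro ⟨q, rfl⟩
      exact ⟨q.1, q.2, rfl⟩
  rw [← hk, ← hset, Nat.card_coe_set_eq, Set.ncard_coe_finset]

/-- [STRUCT] -/
theorem lemStruct_of (hR : LemRestr) (hC : LemOrbCyc) (hD : LemOrbDistinct) (hN : LemNum) :
    LemStruct := by
  intro n Q hn hQ
  set 𝒜 : Finset (Finset (Fin n)) := Finset.univ.image (orb Q) with h𝒜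
  have hA : ∀ A ∈ 𝒜, ∃ x, A = orb Q x := by
    intro A hA'
    rw [h𝒜, Finset.mem_image] at hA'
    obtain ⟨x, -, rfl⟩ := hA'
    exact ⟨x, rfl⟩
  have horb : ∀ x, orb Q x ∈ 𝒜 := fun x => Finset.mem_image_of_mem _ (Finset.mem_univ x)
  have hAinv : ∀ A ∈ 𝒜, ∀ q ∈ Q, ∀ x ∈ A, q x ∈ A := by
    intro A hA' q hq x hx
    obtain ⟨y, rfl⟩ := hA A hA'
    exact orb_inv Q y q hq x hx
  have hAtr : ∀ A ∈ 𝒜, ∀ x ∈ A, ∀ y ∈ A, ∃ q ∈ Q, q x = y := by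
    intro A hA' x hx y hy
    obtain ⟨z, rfl⟩ := hA A hA'
    exact orb_tr Q z x y hx hy
  have hAne : ∀ A ∈ 𝒜, A.Nonempty := by
    intro A hA'
    obtain ⟨z, rfl⟩ := hA A hA'
    exact ⟨z, self_mem_orb Q z⟩
  have hAdisj : ∀ A ∈ 𝒜, ∀ B ∈ 𝒜, A ≠ B → Disjoint A B := by
    intro A hA' B hB' hne
    obtain ⟨x, rfl⟩ := hA A hA'
    obtain ⟨y, rfl⟩ := hA B hB'
    rw [Finset.disjoint_left]
    intro z hz1 hz2
    exact hne ((orb_eq Q x z hz1).symm.trans (orb_eq Q y z hz2))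
  have hAcard : ∀ A ∈ 𝒜, A.card = 2 ^ Nat.log 2 A.card := by
    intro A hA'
    obtain ⟨y, rfl⟩ := hA A hA'
    obtain ⟨k, hk⟩ := orb_card Q hQ.1 y
    rw [hk, Nat.log_pow (by norm_num)]
  have hinj : ∀ A ∈ 𝒜, ∀ B ∈ 𝒜, Nat.log 2 A.card = Nat.log 2 B.card → A = B := by
    intro A hA' B hB' h
    by_contra hne
    have hc : A.card = B.card := by rw [hAcard A hA', hAcard B hB', h]
    exact hD (Fin n) Q A B hQ (hAne A hA') (hAne B hB') (hAinv A hA') (hAtr A hA')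
      (hAinv B hB') (hAtr B hB') hne hc
  have hsum𝒜 : ∑ A ∈ 𝒜, A.card = n := by
    have h1 : (𝒜.biUnion id).card = ∑ A ∈ 𝒜, (id A).card :=
      Finset.card_biUnion (fun A hA' B hB' hne => hAdisj A hA' B hB' hne)
    have h2 : 𝒜.biUnion id = Finset.univ := by
      ext x
      simp only [Finset.mem_biUnion, Finset.mem_univ, iff_true, id]
      exact ⟨orb Q x, horb x, self_mem_orb Q x⟩
    rw [h2, Finset.card_univ, Fintype.card_fin] at h1
    exact h1.symm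
  set s : Finset ℕ := 𝒜.image (fun A => Nat.log 2 A.card) with hs
  have hsums : ∑ k ∈ s, 2 ^ k = n := by
    rw [hs, Finset.sum_image hinj]
    exact (Finset.sum_congr rfl (fun A hA' => (hAcard A hA').symm)).trans hsum𝒜
  obtain ⟨hN1, hN2, hN3⟩ := hN s n hsums hn
  set 𝒪 : Finset (Finset (Fin n)) := 𝒜.filter (fun A => 2 ≤ Nat.log 2 A.card) with h𝒪
  have hO𝒜 : ∀ O ∈ 𝒪, O ∈ 𝒜 := fun O hO => (Finset.mem_filter.mp hO).1
  have hOe : ∀ O ∈ 𝒪, 2 ≤ Nat.log 2 O.card := fun O hO => (Finset.mem_filter.mp hO).2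
  have hO4 : ∀ O ∈ 𝒪, 4 ≤ O.card := by
    intro O hO
    rw [hAcard O (hO𝒜 O hO)]
    calc 4 = 2 ^ 2 := by norm_num
      _ ≤ 2 ^ Nat.log 2 O.card := Nat.pow_le_pow_right (by norm_num) (hOe O hO)
  have himg : 𝒪.image (fun A => Nat.log 2 A.card) = s.filter (fun k => 2 ≤ k) := by
    rw [hs, Finset.filter_image]
  have hinjO : ∀ A ∈ 𝒪, ∀ B ∈ 𝒪, Nat.log 2 A.card = Nat.log 2 B.card → A = B :=
    fun A hA' B hB' h => hinj A (hO𝒜 A hA') B (hO𝒜 B hB') h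
  obtain ⟨T, hTspec⟩ : ∃ T : Finset (Fin n), (T = ∅ ∧ ∀ A ∈ 𝒜, Nat.log 2 A.card ≠ 1) ∨
      (T ∈ 𝒜 ∧ Nat.log 2 T.card = 1) := by
    by_cases hT : ∃ A ∈ 𝒜, Nat.log 2 A.card = 1
    · obtain ⟨A₁, hA₁, he₁⟩ := hT
      exact ⟨A₁, Or.inr ⟨hA₁, he₁⟩⟩
    · push Not at hT
      exact ⟨∅, Or.inl ⟨rfl, hT⟩⟩
  refine ⟨𝒪, T, ⟨hQ.1, ?_, ?_, ?_, ?_, ?_, ?_, ?_⟩, ?_, ?_, ?_⟩
  · -- pairwise disjoint
    intro O hO O' hO' hne
    exact hAdisj O (hO𝒜 O hO) O' (hO𝒜 O' hO') hne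
  · -- disjoint from T
    intro O hO
    rcases hTspec with ⟨rfl, -⟩ | ⟨hT𝒜, hTe⟩
    · exact Finset.disjoint_empty_right O
    · apply hAdisj O (hO𝒜 O hO) T hT𝒜
      intro h
      have h1 := hOe O hO
      rw [h, hTe] at h1
      omega
  · -- fixed points
    intro q hq x hxT hxO
    have hx𝒜 := horb x
    have hxmem := self_mem_orb Q x
    have hlt : ¬ 2 ≤ Nat.log 2 (orb Q x).card := by
      intro h
      exact hxO (orb Q x) (Finset.mem_filter.mpr ⟨hx𝒜, h⟩) hxmem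
    have hne1 : Nat.log 2 (orb Q x).card ≠ 1 := by
      intro h1
      rcases hTspec with ⟨-, hall⟩ | ⟨hT𝒜, hTe⟩
      · exact hall _ hx𝒜 h1
      · have hTeq : T = orb Q x := hinj T hT𝒜 _ hx𝒜 (hTe.trans h1.symm)
        exact hxT (hTeq ▸ hxmem)
    have h0 : Nat.log 2 (orb Q x).card = 0 := by omega
    have hc1 : (orb Q x).card = 1 := by rw [hAcard _ hx𝒜, h0, pow_zero]
    obtain ⟨a, ha⟩ := Finset.card_eq_one.mp hc1
    have hxa : x = a := by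
      have h1 := hxmem
      rw [ha, Finset.mem_singleton] at h1
      exact h1
    have hqx : q x ∈ orb Q x := orb_inv Q x q hq x hxmem
    rw [ha, Finset.mem_singleton] at hqx
    rw [hqx, hxa]
  · -- invariance
    intro q hq O hO x hx
    exact hAinv O (hO𝒜 O hO) q hq x hx
  · -- restriction
    intro q hq O hO
    exact hR (Fin n) Q O hQ (hAinv O (hO𝒜 O hO)) q hq
  · -- cycles
    intro O hO
    have h4 := hO4 O hO
    obtain ⟨hc, hsw⟩ := hC (Fin n) Q O hQ (by omega) (hAinv O (hO𝒜 O hO)) (hAtr O (hO𝒜 O hO))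
    exact ⟨h4, hc, hsw⟩
  · -- the tail
    rcases hTspec with ⟨rfl, -⟩ | ⟨hT𝒜, hTe⟩
    · left; rfl
    · right
      have hT2 : T.card = 2 := by rw [hAcard T hT𝒜, hTe, pow_one]
      obtain ⟨-, a, ha, b, hb, hab, hsw⟩ :=
        hC (Fin n) Q T hQ (by omega) (hAinv T hT𝒜) (hAtr T hT𝒜)
      refine ⟨a, b, hab, ?_, hsw⟩
      symm
      apply Finset.eq_of_subset_of_card_le
      · intro y hy
        rw [Finset.mem_insert, Finset.mem_singleton] at hy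
        rcases hy with rfl | rfl
        · exact ha
        · exact hb
      · rw [Finset.card_pair hab, hT2]
  · -- T ≠ ∅ ↔ n % 4 ∈ {2, 3}
    rw [← hN1, hs, Finset.mem_image]
    rcases hTspec with ⟨rfl, hall⟩ | ⟨hT𝒜, hTe⟩
    · constructor
      · intro h
        exact absurd rfl h
      · rintro ⟨A, hA', hA1⟩
        exact absurd hA1 (hall A hA')
    · constructor
      · intro _
        exact ⟨T, hT𝒜, hTe⟩
      · intro _
        exact (hAne T hT𝒜).ne_empty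
  · -- the sum
    rw [← hN2, ← himg, Finset.sum_image hinjO]
    exact Finset.sum_congr rfl (fun O hO => hAcard O (hO𝒜 O hO))
  · -- the count
    rw [← hN3, ← himg, Finset.card_image_of_injOn (fun A hA' B hB' h => hinjO A hA' B hB' h)]


end Cfsg.Agent.Lib.Helper15.SY
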